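import Mathlib
import Groth.Prelude.Def_Tame

set_option linter.style.haveILetI false

/-!
# Distance of lattices over a one-dimensional Noetherian domain
-/

namespace Groth.Agent.LatticeDist

open Submodule Module Matrix

universe u

variable {A : Type u} [CommRing A] [IsDomain A] [IsNoetherianRing A] [Ring.KrullDimLE 1 A]
variable {K : Type u} [Field K] [Algebra A K] [IsFractionRing A K]
variable {V : Type u} [AddCommGroup V] [Module K V] [Module A V] [IsScalarTower A K V]

omit [IsNoetherianRing A] [Ring.KrullDimLE 1 A] in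
theorem exists_smul_mem {N : Submodule A V} (hN : span K (N : Set V) = ⊤) (v : V) :
    ∃ a : A, a ≠ 0 ∧ a • v ∈ N := by
  have hv : v ∈ span K (N : Set V) := hN ▸ mem_top
  induction hv using Submodule.span_induction with
  | mem v h => exact ⟨1, one_ne_zero, by rwa [one_smul]⟩
  | zero => exact ⟨1, one_ne_zero, by simp⟩
  | add v w _ _ hv hw =>
    obtain ⟨a, ha, hav⟩ := hv
    obtain ⟨b, hb, hbw⟩ := hw
    refine ⟨a * b, mul_ne_zero ha hb, ?_⟩
    rw [smul_add, mul_smul, mul_smul]
    exact N.add_mem (by rw [smul_comm]; exact N.smul_mem b hav) (N.smul_mem a hbw)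
  | smul k v _ hv =>
    obtain ⟨a, ha, hav⟩ := hv
    obtain ⟨n, ⟨d, hd⟩, hk⟩ := IsLocalization.exists_mk'_eq (nonZeroDivisors A) k
    refine ⟨a * d, mul_ne_zero ha (nonZeroDivisors.ne_zero hd), ?_⟩
    have hdk : algebraMap A K d * k = algebraMap A K n := by
      rw [← hk]; exact IsLocalization.mk'_spec' K n ⟨d, hd⟩
    rw [← IsScalarTower.algebraMap_smul K (a * d), smul_smul, map_mul, mul_assoc, hdk, ← map_mul,
      IsScalarTower.algebraMap_smul, mul_comm, mul_smul]
    exact N.smul_mem n hav

omit [IsNoetherianRing A] [Ring.KrullDimLE 1 A] in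
theorem exists_smul_le (M : Submodule A V) (hM : M.FG) {N : Submodule A V} (hN : span K (N : Set V) = ⊤) :
    ∃ a : A, a ≠ 0 ∧ ∀ v ∈ M, a • v ∈ N := by
  classical
  obtain ⟨s, rfl⟩ := hM
  choose a ha hav using exists_smul_mem (A := A) hN
  refine ⟨∏ v ∈ s, a v, Finset.prod_ne_zero_iff.mpr fun v _ => ha v, fun v hv => ?_⟩
  suffices span A (s : Set V) ≤ N.comap (DistribSMul.toLinearMap A V (∏ v ∈ s, a v)) from this hv
  refine span_le.mpr fun w hw => ?_
  show (∏ v ∈ s, a v) • w ∈ N
  rw [← Finset.prod_erase_mul _ _ hw, mul_smul]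
  exact N.smul_mem _ (hav w)

omit [Ring.KrullDimLE 1 A] in
theorem isLattice_inf (M N : Submodule A V) [IsLattice K M] [IsLattice K N] : IsLattice K (M ⊓ N) := by
  haveI : IsNoetherian A ↥M := isNoetherian_of_isNoetherianRing_of_finite A M
  haveI : IsNoetherian A ↥(M ⊓ N) := isNoetherian_of_le inf_le_left
  refine ⟨(Module.Finite.iff_fg).mp inferInstance, eq_top_iff.mpr ?_⟩
  obtain ⟨a, ha, hle⟩ := exists_smul_le M IsLattice.fg (IsLattice.span_eq_top (M := N))
  rw [← IsLattice.span_eq_top (M := M)]
  refine span_le.mpr fun v hv => ?_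
  have h1 : a • v ∈ M ⊓ N := ⟨M.smul_mem a hv, hle v hv⟩
  have ha' : algebraMap A K a ≠ 0 := (map_ne_zero_iff _ (IsFractionRing.injective A K)).mpr ha
  rw [show v = (algebraMap A K a)⁻¹ • a • v by rw [← IsScalarTower.algebraMap_smul K a, inv_smul_smul₀ ha']]
  exact smul_mem _ _ (subset_span h1)

/-- Colength of a sublattice. -/
noncomputable def cl (L M : Submodule A V) : ℤ := (Module.length A (↥M ⧸ L.submoduleOf M)).toNat

theorem length_ne_top (L M : Submodule A V) [IsLattice K L] [IsLattice K M] :
    Module.length A (↥M ⧸ L.submoduleOf M) ≠ ⊤ := by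
  obtain ⟨a, ha, hle⟩ := exists_smul_le M IsLattice.fg (IsLattice.span_eq_top (M := L))
  obtain ⟨n, g, hg⟩ := Module.Finite.exists_fin' A (↥M ⧸ L.submoduleOf M)
  let g' : (Fin n → (A ⧸ Ideal.span {a})) →ₗ[A] (↥M ⧸ L.submoduleOf M) :=
    ∑ i, ((Submodule.liftQ (Ideal.span {a}) (LinearMap.toSpanSingleton A _ (g (Pi.single i 1))) (by
      refine (Ideal.span_singleton_le_iff_mem _).mpr ?_
      rw [LinearMap.mem_ker, LinearMap.toSpanSingleton_apply]
      obtain ⟨w, hw⟩ := Submodule.Quotient.mk_surjective _ (g (Pi.single i 1))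
      rw [← hw, ← Submodule.Quotient.mk_smul, Submodule.Quotient.mk_eq_zero]
      exact hle _ w.2)) ∘ₗ LinearMap.proj i)
  have hg' : Function.Surjective g' := by
    intro y
    obtain ⟨c, rfl⟩ := hg y
    refine ⟨fun i => Submodule.Quotient.mk (c i), ?_⟩
    simp only [g', LinearMap.coe_sum, Finset.sum_apply, LinearMap.coe_comp, Function.comp_apply,
      LinearMap.proj_apply, Submodule.liftQ_apply, LinearMap.toSpanSingleton_apply, ← map_smul,
      ← map_sum]
    congr 1
    ext j
    simp [Finset.sum_apply, Pi.single_apply]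
  refine ne_top_of_le_ne_top ?_ (Module.length_le_of_surjective g' hg')
  rw [Module.length_pi_of_fintype]
  exact WithTop.sum_ne_top.mpr fun i _ => Ring.ord_ne_top (mem_nonZeroDivisors_of_ne_zero ha)

theorem cl_trans (L P M : Submodule A V) [IsLattice K L] [IsLattice K P] [IsLattice K M]
    (hLP : L ≤ P) (hPM : P ≤ M) : cl L M = cl L P + cl P M := by
  let i : (↥P ⧸ L.submoduleOf P) →ₗ[A] (↥M ⧸ L.submoduleOf M) :=
    Submodule.mapQ _ _ (Submodule.inclusion hPM) (fun v hv => hv)
  let p : (↥M ⧸ L.submoduleOf M) →ₗ[A] (↥M ⧸ P.submoduleOf M) :=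
    Submodule.factor (fun v hv => hLP hv)
  have hi : Function.Injective i := by
    rw [← LinearMap.ker_eq_bot, eq_bot_iff]
    intro y hy
    obtain ⟨v, rfl⟩ := Submodule.Quotient.mk_surjective _ y
    rw [LinearMap.mem_ker, Submodule.mapQ_apply, Submodule.Quotient.mk_eq_zero] at hy
    rw [Submodule.mem_bot, Submodule.Quotient.mk_eq_zero]
    exact hy
  have hex : Function.Exact i p := by
    intro y
    obtain ⟨v, rfl⟩ := Submodule.Quotient.mk_surjective _ y
    constructor
    · intro h
      have h1 : (Submodule.Quotient.mk v : ↥M ⧸ P.submoduleOf M) = 0 := h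
      rw [Submodule.Quotient.mk_eq_zero] at h1
      exact ⟨Submodule.Quotient.mk ⟨v.1, h1⟩, rfl⟩
    · rintro ⟨w, hw⟩
      obtain ⟨w, rfl⟩ := Submodule.Quotient.mk_surjective _ w
      rw [← hw]
      show (Submodule.Quotient.mk (Submodule.inclusion hPM w) : ↥M ⧸ P.submoduleOf M) = 0
      rw [Submodule.Quotient.mk_eq_zero]
      exact w.2
  have := Module.length_eq_add_of_exact i p hi (Submodule.factor_surjective _) hex
  unfold cl
  rw [this, ENat.toNat_add (length_ne_top L P) (length_ne_top P M)]
  push_cast
  rfl

/-- The distance. -/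
noncomputable def dist (M N : Submodule A V) : ℤ := cl (M ⊓ N) M - cl (M ⊓ N) N

theorem dist_eq (L M N : Submodule A V) [IsLattice K L] [IsLattice K M] [IsLattice K N]
    (hM : L ≤ M) (hN : L ≤ N) : dist M N = cl L M - cl L N := by
  haveI := isLattice_inf (K := K) M N
  rw [dist, cl_trans (K := K) L (M ⊓ N) M (le_inf hM hN) inf_le_left,
    cl_trans (K := K) L (M ⊓ N) N (le_inf hM hN) inf_le_right]
  ring

theorem dist_trans (M N P : Submodule A V) [IsLattice K M] [IsLattice K N] [IsLattice K P] :
    dist M P = dist M N + dist N P := by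
  haveI := isLattice_inf (K := K) M N
  haveI := isLattice_inf (K := K) (M ⊓ N) P
  rw [dist_eq (K := K) (M ⊓ N ⊓ P) M P (inf_le_left.trans inf_le_left) inf_le_right,
    dist_eq (K := K) (M ⊓ N ⊓ P) M N (inf_le_left.trans inf_le_left) (inf_le_left.trans inf_le_right),
    dist_eq (K := K) (M ⊓ N ⊓ P) N P (inf_le_left.trans inf_le_right) inf_le_right]
  ring

omit [IsNoetherianRing A] [Ring.KrullDimLE 1 A] [IsDomain A] [IsFractionRing A K] in
theorem isLattice_map (f : V →ₗ[K] V) (hf : Function.Surjective f) (M : Submodule A V) [IsLattice K M] :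
    IsLattice K (M.map (f.restrictScalars A)) := by
  refine ⟨(IsLattice.fg (M := M)).map _, ?_⟩
  rw [Submodule.map_coe, LinearMap.coe_restrictScalars, Submodule.span_image, IsLattice.span_eq_top,
    Submodule.map_top, LinearMap.range_eq_top.mpr hf]

omit [IsNoetherianRing A] [Ring.KrullDimLE 1 A] [IsDomain A] [IsFractionRing A K] in
theorem cl_map (f : V →ₗ[K] V) (hf : Function.Injective f) (L M : Submodule A V) :
    cl (L.map (f.restrictScalars A)) (M.map (f.restrictScalars A)) = cl L M := by
  unfold cl
  congr 2
  refine (LinearEquiv.length_eq (Submodule.Quotient.equiv _ _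
    (Submodule.equivMapOfInjective (f.restrictScalars A) hf M) ?_)).symm
  ext ⟨y, hy⟩
  obtain ⟨x, hx, rfl⟩ := hy
  constructor
  · rintro ⟨z, hz, hzy⟩
    have : f z.1 = f x := congrArg Subtype.val hzy
    exact ⟨x, hf this ▸ hz, rfl⟩
  · rintro ⟨z, hz, hzx⟩
    exact ⟨⟨x, hx⟩, show x ∈ L from hf hzx ▸ hz, rfl⟩

theorem dist_map (f : V →ₗ[K] V) (hf : Function.Bijective f) (M N : Submodule A V)
    [IsLattice K M] [IsLattice K N] :
    dist (M.map (f.restrictScalars A)) (N.map (f.restrictScalars A)) = dist M N := by
  haveI := isLattice_inf (K := K) M N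
  haveI := isLattice_map f hf.2 (M ⊓ N)
  haveI := isLattice_map f hf.2 M
  haveI := isLattice_map f hf.2 N
  rw [dist_eq (K := K) ((M ⊓ N).map (f.restrictScalars A)) _ _ (Submodule.map_mono inf_le_left)
    (Submodule.map_mono inf_le_right), cl_map f hf.1, cl_map f hf.1]
  rfl

/-- The index of a linear map. -/
noncomputable def chi (M : Submodule A V) (f : V →ₗ[K] V) : ℤ := dist M (M.map (f.restrictScalars A))

theorem chi_comp (M : Submodule A V) [IsLattice K M] (f g : V →ₗ[K] V) (hf : Function.Bijective f)
    (hg : Function.Bijective g) : chi M (f.comp g) = chi M f + chi M g := by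
  haveI := isLattice_map f hf.2 M
  haveI := isLattice_map g hg.2 M
  haveI := isLattice_map f hf.2 (M.map (g.restrictScalars A))
  unfold chi
  rw [show (f.comp g).restrictScalars A = (f.restrictScalars A).comp (g.restrictScalars A) from rfl,
    Submodule.map_comp, dist_trans (K := K) M (M.map (f.restrictScalars A)), dist_map f hf]

theorem chi_congr_lattice (M N : Submodule A V) [IsLattice K M] [IsLattice K N] (f : V →ₗ[K] V)
    (hf : Function.Bijective f) : chi M f = chi N f := by
  haveI := isLattice_map f hf.2 M
  haveI := isLattice_map f hf.2 N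
  unfold chi
  have h1 := dist_trans (K := K) M N (M.map (f.restrictScalars A))
  have h2 := dist_trans (K := K) N (N.map (f.restrictScalars A)) (M.map (f.restrictScalars A))
  have h3 := dist_map f hf N M
  have h4 := dist_trans (K := K) M N M
  have h5 : dist M M = 0 := sub_self _
  linarith

omit [IsFractionRing A K] in
/-- The order on the fraction field. -/
theorem ord_algebraMap [IsFractionRing A K] {a : A} (ha : a ≠ 0) :
    CycAlg.ordFrac A K (algebraMap A K a) = (Ring.ord A a).toNat := by
  rw [CycAlg.ordFrac, dif_pos ⟨inferInstance, inferInstance, inferInstance, inferInstance⟩,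
    Ring.ordFrac_eq_ord A ha,
    ← Ring.ordMonoidWithZeroHom_eq_ordMonoidHom ⟨a, mem_nonZeroDivisors_of_ne_zero ha⟩]
  rfl

theorem ord_mul {x y : K} (hx : x ≠ 0) (hy : y ≠ 0) :
    CycAlg.ordFrac A K (x * y) = CycAlg.ordFrac A K x + CycAlg.ordFrac A K y := by
  simp only [CycAlg.ordFrac, dif_pos (show IsNoetherianRing A ∧ Ring.KrullDimLE 1 A ∧ Nontrivial A ∧ IsFractionRing A K from
    ⟨inferInstance, inferInstance, inferInstance, inferInstance⟩)]
  rw [map_mul]
  obtain ⟨m, hm⟩ := WithZero.ne_zero_iff_exists.mp ((map_ne_zero (Ring.ordFrac A (K := K))).mpr hx)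
  obtain ⟨n, hn⟩ := WithZero.ne_zero_iff_exists.mp ((map_ne_zero (Ring.ordFrac A (K := K))).mpr hy)
  rw [← hm, ← hn, ← WithZero.coe_mul]
  rfl

theorem ord_one : CycAlg.ordFrac A K 1 = 0 := by
  have := ord_mul (A := A) (one_ne_zero (α := K)) one_ne_zero
  rw [one_mul] at this
  omega

variable {n : ℕ} (b : Basis (Fin n) K V)

/-- The standard lattice of a basis. -/
def std : Submodule A V := span A (Set.range b)

omit [IsDomain A] [IsNoetherianRing A] [Ring.KrullDimLE 1 A] [IsFractionRing A K] in
theorem isLattice_std : IsLattice K (std (A := A) b) :=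
  ⟨fg_span (Set.finite_range b), eq_top_iff.mpr (b.span_eq ▸ span_mono subset_span)⟩

omit [IsDomain A] [IsNoetherianRing A] [Ring.KrullDimLE 1 A] [Algebra A K] [IsFractionRing A K] [Module A V] [IsScalarTower A K V] in
theorem toLin_bijective {B : Matrix (Fin n) (Fin n) K} (hB : B.det ≠ 0) : Function.Bijective (toLin b b B) :=
  haveI := Module.Finite.of_basis b
  (LinearEquiv.bijective (LinearMap.equivOfDetNeZero (toLin b b B) (by rwa [LinearMap.det_toLin])))

theorem chi_mul {B C : Matrix (Fin n) (Fin n) K} (hB : B.det ≠ 0) (hC : C.det ≠ 0) :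
    chi (std (A := A) b) (toLin b b (B * C)) =
      chi (std (A := A) b) (toLin b b B) + chi (std (A := A) b) (toLin b b C) := by
  haveI := isLattice_std (A := A) b
  rw [toLin_mul b b b, chi_comp _ _ _ (toLin_bijective b hB) (toLin_bijective b hC)]

theorem exists_ne (hA : ¬ IsField A) : ∃ x : K, x ≠ 0 ∧ 1 + x ≠ 0 := by
  obtain ⟨x, hx0, hxu⟩ := Ring.exists_not_isUnit_of_not_isField hA
  refine ⟨algebraMap A K x, (map_ne_zero_iff _ (IsFractionRing.injective A K)).mpr hx0, fun h => hxu ?_⟩
  rw [← map_one (algebraMap A K), ← map_add, map_eq_zero_iff _ (IsFractionRing.injective A K)] at h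
  rw [show x = -1 by linear_combination h]
  exact isUnit_one.neg

theorem chi_transvection (hA : ¬ IsField A) {i j : Fin n} (hij : i ≠ j) (c : K) :
    chi (std (A := A) b) (toLin b b (transvection i j c)) = 0 := by
  classical
  let F : K → ℤ := fun c => chi (std (A := A) b) (toLin b b (transvection i j c))
  have hdet : ∀ c : K, (transvection i j c).det ≠ 0 := fun c => by
    rw [det_transvection_of_ne i j hij c]; exact one_ne_zero
  have hadd : ∀ c d, F (c + d) = F c + F d := fun c d => by
    simp only [F]
    rw [← chi_mul b (hdet c) (hdet d), transvection_mul_transvection_same _ _ hij]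
  have hscale : ∀ (l c : K), l ≠ 0 → F (l * c) = F c := fun l c hl => by
    let D : Matrix (Fin n) (Fin n) K := diagonal (Function.update 1 i l)
    have hD : D.det ≠ 0 := by
      rw [det_diagonal, Finset.prod_ne_zero_iff]
      intro k _
      rw [Function.update_apply]
      split <;> simp [hl]
    have hcomm : transvection i j (l * c) * D = D * transvection i j c := by
      rw [transvection, transvection, Matrix.add_mul, Matrix.mul_add, one_mul, mul_one]
      congr 1
      ext p q
      rw [mul_diagonal, diagonal_mul, Matrix.single_apply, Matrix.single_apply]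
      split_ifs with h
      · obtain ⟨rfl, rfl⟩ := h
        rw [Function.update_self, Function.update_of_ne hij.symm, Pi.one_apply, mul_one]
      · show (0 : K) * _ = _ * (0 : K)
        rw [zero_mul, mul_zero]
    have := congrArg (fun B => chi (std (A := A) b) (toLin b b B)) hcomm
    beta_reduce at this
    rw [chi_mul b (hdet _) hD, chi_mul b hD (hdet _)] at this
    simp only [F]
    linarith
  have hne : ∀ x : K, x ≠ 0 → 1 + x ≠ 0 → F x = 0 := fun x hx hx1 => by
    have h1 := hadd 1 x
    have h2 := hscale (1 + x) 1 hx1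
    rw [mul_one] at h2
    omega
  obtain ⟨x, hx, hx1⟩ := exists_ne (A := A) (K := K) hA
  have h1 : F 1 = 0 := by
    have := hscale x 1 hx
    rw [mul_one, hne x hx hx1] at this
    omega
  show F c = 0
  by_cases hc : c = 0
  · have := hadd 0 0
    rw [add_zero] at this
    subst hc
    omega
  · have := hscale c 1 hc
    rw [mul_one] at this
    omega

theorem chi_update_algebraMap (i : Fin n) {a : A} (ha : a ≠ 0) :
    chi (std (A := A) b) (toLin b b (diagonal (Function.update 1 i (algebraMap A K a)))) =
      (Ring.ord A a).toNat := by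
  classical
  haveI := isLattice_std (A := A) b
  let M0 := std (A := A) b
  let e := toLin b b (diagonal (Function.update 1 i (algebraMap A K a)))
  let bA : Basis (Fin n) A M0 := b.restrictScalars A
  have he : ∀ k, e (b k) = (Function.update (1 : Fin n → A) i a k) • b k := fun k => by
    simp only [e, toLin_self]
    rw [Finset.sum_eq_single k (fun l _ hl => by rw [diagonal_apply_ne _ hl, zero_smul]) (by simp),
      diagonal_apply_eq]
    rcases eq_or_ne k i with rfl | hk
    · rw [Function.update_self, Function.update_self, IsScalarTower.algebraMap_smul]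
    · rw [Function.update_of_ne hk, Function.update_of_ne hk]
      simp
  let E : M0 →ₗ[A] M0 := bA.constr A fun k => (Function.update (1 : Fin n → A) i a k) • bA k
  have hE : ∀ v : M0, (E v : V) = e v := by
    intro v
    have : M0.subtype.comp E = (e.restrictScalars A).comp M0.subtype := by
      refine bA.ext fun k => ?_
      simp [E, bA]
      exact ((congrArg e (Basis.restrictScalars_apply A b k)).trans ((he k).trans
        (congrArg ((Function.update (1 : Fin n → A) i a k) • ·) (Basis.restrictScalars_apply A b k).symm))).symm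
    exact LinearMap.congr_fun this v
  have hle : M0.map (e.restrictScalars A) ≤ M0 := by
    rintro _ ⟨v, hv, rfl⟩
    rw [LinearMap.coe_restrictScalars, ← hE ⟨v, hv⟩]
    exact Subtype.prop _
  haveI := isLattice_map e (toLin_bijective b (B := diagonal (Function.update 1 i (algebraMap A K a))) (by
    rw [det_diagonal, Finset.prod_ne_zero_iff]
    intro k _
    rw [Function.update_apply]
    split <;> simp [(map_ne_zero_iff _ (IsFractionRing.injective A K)).mpr ha])).2 M0
  show dist M0 (M0.map (e.restrictScalars A)) = _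
  rw [dist_eq (K := K) (M0.map (e.restrictScalars A)) M0 _ hle le_rfl]
  have h0 : cl (M0.map (e.restrictScalars A)) (M0.map (e.restrictScalars A)) = 0 := by
    unfold cl
    haveI : Subsingleton (↥(M0.map (e.restrictScalars A)) ⧸ (M0.map (e.restrictScalars A)).submoduleOf (M0.map (e.restrictScalars A))) :=
      Submodule.Quotient.subsingleton_iff.mpr (Submodule.comap_subtype_self _)
    rw [Module.length_eq_zero]
    rfl
  rw [h0, sub_zero]
  unfold cl Ring.ord
  congr 2
  let π : M0 →ₗ[A] A ⧸ Ideal.span {a} := (Submodule.mkQ _).comp (bA.coord i)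
  have hker : (M0.map (e.restrictScalars A)).submoduleOf M0 = LinearMap.ker π := by
    ext v
    constructor
    · rintro ⟨w, hw, hwv⟩
      have hv : v = E ⟨w, hw⟩ := Subtype.ext (by rw [hE]; exact hwv.symm)
      rw [LinearMap.mem_ker, hv]
      show Submodule.Quotient.mk ((bA.repr (E ⟨w, hw⟩)) i) = 0
      rw [Submodule.Quotient.mk_eq_zero, Ideal.mem_span_singleton']
      refine ⟨bA.repr ⟨w, hw⟩ i, ?_⟩
      simp only [E, Basis.constr_apply_fintype, map_sum, map_smul, Basis.repr_self, Finsupp.coe_finsetSum,
        Finset.sum_apply, Finsupp.coe_smul, Pi.smul_apply, Basis.equivFun_apply, smul_eq_mul]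
      rw [Finset.sum_eq_single i (fun l _ hl => by simp [hl]) (by simp)]
      simp [Function.update_self]
    · intro hv
      have hv' : bA.repr v i ∈ Ideal.span {a} := (Submodule.Quotient.mk_eq_zero _).mp hv
      obtain ⟨c, hc⟩ := Ideal.mem_span_singleton'.mp hv'
      refine ⟨((∑ k, (if k = i then c else bA.repr v k) • bA k : M0) : V), Subtype.prop _, ?_⟩
      rw [LinearMap.coe_restrictScalars, ← hE]
      congr 1
      simp only [E, map_sum, map_smul, Basis.constr_basis, smul_smul]
      conv_rhs => rw [← bA.sum_repr v]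
      refine Finset.sum_congr rfl fun k _ => ?_
      congr 1
      rcases eq_or_ne k i with rfl | hk
      · simp [hc]
      · simp [hk]
  have hπ : Function.Surjective π := by
    intro y
    obtain ⟨c, rfl⟩ := Submodule.Quotient.mk_surjective _ y
    exact ⟨c • bA i, by simp [π, Algebra.smul_def]⟩
  exact LinearEquiv.length_eq ((Submodule.quotEquivOfEq _ _ hker).trans (π.quotKerEquivOfSurjective hπ))

theorem chi_update (i : Fin n) {d : K} (hd : d ≠ 0) :
    chi (std (A := A) b) (toLin b b (diagonal (Function.update 1 i d))) = CycAlg.ordFrac A K d := by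
  classical
  have hdet : ∀ x : K, x ≠ 0 → (diagonal (Function.update (1 : Fin n → K) i x)).det ≠ 0 := fun x hx => by
    rw [det_diagonal, Finset.prod_ne_zero_iff]
    intro k _
    rw [Function.update_apply]
    split <;> simp [hx]
  obtain ⟨a, ⟨c, hc⟩, hac⟩ := IsLocalization.exists_mk'_eq (nonZeroDivisors A) d
  have hc0 : c ≠ 0 := nonZeroDivisors.ne_zero hc
  have hck : algebraMap A K c ≠ 0 := (map_ne_zero_iff _ (IsFractionRing.injective A K)).mpr hc0
  have hmul : d * algebraMap A K c = algebraMap A K a := by
    rw [← hac]; exact IsLocalization.mk'_spec K a ⟨c, hc⟩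
  have ha : a ≠ 0 := fun h => by
    rw [h, map_zero] at hmul
    exact mul_ne_zero hd hck hmul
  have h1 := chi_mul (A := A) b (hdet d hd) (hdet _ hck)
  rw [diagonal_mul_diagonal, show (fun k => Function.update (1 : Fin n → K) i d k * Function.update (1 : Fin n → K) i (algebraMap A K c) k) =
      Function.update (1 : Fin n → K) i (algebraMap A K a) by
    funext k
    rcases eq_or_ne k i with rfl | hk
    · simp [hmul]
    · simp [hk], chi_update_algebraMap b i ha, chi_update_algebraMap b i hc0] at h1
  have h2 := ord_mul (A := A) hd hck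
  rw [hmul, ord_algebraMap ha, ord_algebraMap hc0] at h2
  omega

/-- The index is the order of the determinant. -/
theorem chi_eq_ord_det (hA : ¬ IsField A) (M : Submodule A V) [IsLattice K M] (f : V ≃ₗ[K] V) :
    chi M f.toLinearMap = CycAlg.ordFrac A K (LinearMap.det f.toLinearMap) := by
  classical
  haveI : Module.Finite K V := by
    refine ⟨?_⟩
    obtain ⟨s, hs⟩ := IsLattice.fg (M := M)
    exact ⟨s, eq_top_iff.mpr (IsLattice.span_eq_top (M := M) ▸ span_le.mpr fun v hv => by
      rw [← hs] at hv
      exact span_le_restrictScalars A K _ hv)⟩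
  let b := Module.finBasis K V
  haveI := isLattice_std (A := A) b
  rw [chi_congr_lattice M (std b) f.toLinearMap f.bijective, ← toLin_toMatrix b b f.toLinearMap, LinearMap.det_toLin]
  have hdet : (LinearMap.toMatrix b b f.toLinearMap).det ≠ 0 := by
    rw [LinearMap.det_toMatrix]; exact f.isUnit_det'.ne_zero
  refine diagonal_transvection_induction_of_det_ne_zero
    (fun B => chi (std (A := A) b) (toLin b b B) = CycAlg.ordFrac A K B.det) _ hdet ?_ ?_ ?_
  · intro D hD
    rw [det_diagonal, Finset.prod_ne_zero_iff] at hD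
    suffices ∀ s : Finset (Fin (Module.finrank K V)),
        chi (std (A := A) b) (toLin b b (diagonal (s.piecewise D 1))) = CycAlg.ordFrac A K (∏ k ∈ s, D k) by
      have h := this Finset.univ
      rwa [Finset.piecewise_univ, ← det_diagonal] at h
    intro s
    induction s using Finset.induction with
    | empty =>
      rw [Finset.piecewise_empty, Finset.prod_empty, ord_one]
      have h := chi_mul (A := A) b (B := 1) (C := 1) (by rw [det_one]; exact one_ne_zero) (by rw [det_one]; exact one_ne_zero)
      rw [one_mul] at h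
      rw [show diagonal (1 : Fin _ → K) = 1 from diagonal_one]
      omega
    | @insert i s hi ih =>
      have hd : (diagonal (Function.update (1 : Fin _ → K) i (D i))).det ≠ 0 := by
        rw [det_diagonal, Finset.prod_ne_zero_iff]
        intro k _
        rw [Function.update_apply]
        split <;> simp [hD i (Finset.mem_univ _)]
      have hs : (diagonal (s.piecewise D 1)).det ≠ 0 := by
        rw [det_diagonal, Finset.prod_ne_zero_iff]
        intro k _
        by_cases hk : k ∈ s <;> simp [hk, hD k (Finset.mem_univ _)]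
      have heq : diagonal ((insert i s).piecewise D 1) =
          diagonal (Function.update (1 : Fin _ → K) i (D i)) * diagonal (s.piecewise D 1) := by
        rw [diagonal_mul_diagonal]
        congr 1
        funext k
        rcases eq_or_ne k i with rfl | hk
        · simp [hi]
        · by_cases hks : k ∈ s <;> simp [hk, hks]
      rw [heq, chi_mul b hd hs, ih, chi_update b i (hD i (Finset.mem_univ _)), Finset.prod_insert hi,
        ord_mul (hD i (Finset.mem_univ _)) (Finset.prod_ne_zero_iff.mpr fun k _ => hD k (Finset.mem_univ _))]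
  · intro t
    show chi _ _ = _
    rw [TransvectionStruct.det, ord_one]
    exact chi_transvection b hA t.hij t.c
  · intro B C hB hC h1 h2
    show chi _ _ = _
    rw [chi_mul b hB hC, det_mul, ord_mul hB hC]
    exact congrArg₂ (· + ·) h1 h2

end Groth.Agent.LatticeDist
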